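import Mathlib.AlgebraicGeometry.Morphisms.UniversallyOpen
import Mathlib.AlgebraicGeometry.IdealSheaf.Subscheme
import Mathlib.AlgebraicGeometry.Properties

/-!
# Generalisations in products over a field
-/

universe u

open CategoryTheory Limits AlgebraicGeometry TopologicalSpace

set_option backward.isDefEq.respectTransparency.types false

namespace Groth.Agent.ProdComp12

variable {k : Type u} [Field k] {X Y P : Scheme.{u}} {f : X ⟶ Spec (CommRingCat.of k)}
  {g : Y ⟶ Spec (CommRingCat.of k)} {p : P ⟶ X} {q : P ⟶ Y}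

theorem flat_over_field (g : Y ⟶ Spec (CommRingCat.of k)) : Flat g := by
  haveI : Subsingleton ↥(Spec (CommRingCat.of k)) :=
    inferInstanceAs (Subsingleton (PrimeSpectrum k))
  exact inferInstance

/-- Generalisations lift inside the preimage of a closed subset of the other factor. -/
theorem exists_generalization (hP : IsPullback p q f g) {Z : Set Y} (hZ : IsClosed Z) {v : P}
    (hv : q v ∈ Z) {x : X} (hx : x ⤳ p v) : ∃ w, w ⤳ v ∧ p w = x ∧ q w ∈ Z := by
  let I := Scheme.IdealSheafData.vanishingIdeal ⟨Z, hZ⟩
  let j := I.subschemeι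
  have hj : Set.range j = Z := by
    rw [Scheme.IdealSheafData.range_subschemeι, Scheme.IdealSheafData.coe_support_vanishingIdeal]
    rfl
  haveI := flat_over_field (j ≫ g)
  obtain ⟨z, hz⟩ : q v ∈ Set.range j := hj.ge hv
  obtain ⟨v', hv1, hv2⟩ := Scheme.Pullback.exists_preimage_pullback v z hz.symm
  have hpb : IsPullback (pullback.fst q j ≫ p) (pullback.snd q j) f (j ≫ g) :=
    ((IsPullback.of_hasPullback q j).flip.paste_vert hP.flip).flip
  haveI : Flat (pullback.fst q j ≫ p) := MorphismProperty.of_isPullback hpb.flip inferInstance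
  obtain ⟨w', hw', hw''⟩ := Flat.generalizingMap (pullback.fst q j ≫ p)
    (show x ⤳ (pullback.fst q j ≫ p) v' by rw [Scheme.Hom.comp_apply, hv1]; exact hx)
  refine ⟨pullback.fst q j w', hv1 ▸ hw'.map (pullback.fst q j).continuous, hw'', ?_⟩
  rw [← hj]
  exact ⟨pullback.snd q j w', by rw [← Scheme.Hom.comp_apply, ← pullback.condition]; rfl⟩

/-- Generic points of components go to generic points of components. -/
theorem closure_image_mem (hP : IsPullback p q f g) {W : Set P} (hW : W ∈ irreducibleComponents P)
    {w : P} (hw : IsGenericPoint w W) : closure {p w} ∈ irreducibleComponents X := by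
  obtain ⟨C, hC, hpC⟩ : ∃ C ∈ irreducibleComponents X, p w ∈ C :=
    ⟨_, irreducibleComponent_mem_irreducibleComponents (p w), mem_irreducibleComponent⟩
  obtain ⟨x, hx⟩ : ∃ x, IsGenericPoint x C :=
    QuasiSober.sober hC.1 (isClosed_of_mem_irreducibleComponents C hC)
  obtain ⟨w', hw', hp, -⟩ :=
    exists_generalization hP isClosed_univ (Set.mem_univ _) (hx.specializes hpC)
  have h1 : W ⊆ closure {w'} := hw.def ▸ specializes_iff_closure_subset.1 hw'
  have h2 : closure {w'} ⊆ W := hW.2 isIrreducible_singleton.closure h1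
  obtain rfl : w' = w := IsGenericPoint.eq (S := W) (le_antisymm h2 h1) hw
  rwa [hp, hx.def]

theorem mem_of_specializes {T : Scheme.{u}} {C : Set T} (hC : C ∈ irreducibleComponents T) {c a : T}
    (hc : IsGenericPoint c C) (h : a ⤳ c) : a ∈ C := by
  have h1 : C ⊆ closure {a} := hc.def ▸ specializes_iff_closure_subset.1 h
  exact hC.2 isIrreducible_singleton.closure h1 (subset_closure rfl)

end Groth.Agent.ProdComp12
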